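import Mathlib.LinearAlgebra.Matrix.PosDef
import Mathlib.Data.Nat.Dist
import Mathlib.Data.Nat.Choose.Vandermonde
import Mathlib.Data.Real.Basic
import Mathlib.Algebra.BigOperators.Intervals
import Mathlib.Algebra.Order.Star.Real
import Mathlib.Tactic.LinearCombination
import Mathlib.Tactic.Positivity

/-! The signed binomial Toeplitz matrix as a Gram matrix. -/

namespace Groth.Agent.ToeplitzGram

open Finset Matrix

/-- shifted coefficient vectors of `(1 - X)^n` -/
def gramD (n m : ℕ) : Matrix (Fin (m + n)) (Fin m) ℝ := Matrix.of fun a i =>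
  if (i : ℕ) ≤ (a : ℕ) then (-1 : ℝ) ^ ((a : ℕ) - (i : ℕ)) * (n.choose ((a : ℕ) - (i : ℕ)) : ℝ) else 0

lemma choose_corr (n d : ℕ) (hd : d ≤ n) :
    ∑ b ∈ range (n + 1), n.choose b * n.choose (b + d) = (2 * n).choose (n + d) := by
  have h1 : (2 * n).choose (n + d) = (2 * n).choose (n - d) :=
    (Nat.choose_symm_of_eq_add (by omega)).symm
  rw [h1, two_mul, Nat.add_choose_eq, Nat.sum_antidiagonal_eq_sum_range_succ (fun i j => n.choose i * n.choose j)]
  refine (sum_subset (Finset.range_mono (by omega : n - d + 1 ≤ n + 1)) fun b hb hb' => ?_).symm.trans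
    (sum_congr rfl fun b hb => ?_)
  · simp only [mem_range] at hb hb'
    rw [Nat.choose_eq_zero_of_lt (by omega : n < b + d), mul_zero]
  · have := mem_range.1 hb
    rw [Nat.choose_symm_of_eq_add (by omega : n = (n - d - b) + (b + d))]

lemma gram_entry (n m : ℕ) (i j : Fin m) (hij : (i : ℕ) ≤ (j : ℕ)) :
    ((gramD n m)ᴴ * gramD n m) i j
      = (-1 : ℝ) ^ ((i : ℕ) + (j : ℕ)) * ((2 * n).choose (n + ((j : ℕ) - (i : ℕ))) : ℝ) := by
  obtain ⟨d, hd⟩ := Nat.exists_eq_add_of_le hij
  rw [Matrix.mul_apply, hd, Nat.add_sub_cancel_left]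
  have hsum : ∑ a, (gramD n m)ᴴ i a * gramD n m a j = ∑ a ∈ range (m + n),
      if (j : ℕ) ≤ a then ((-1 : ℝ) ^ d * ((n.choose (a - j) * n.choose (a - j + d) : ℕ) : ℝ)) else 0 := by
    rw [← Fin.sum_univ_eq_sum_range]
    refine sum_congr rfl fun a _ => ?_
    simp only [gramD, conjTranspose_apply, of_apply, star_trivial]
    by_cases ha : (j : ℕ) ≤ (a : ℕ)
    · rw [if_pos ha, if_pos (by omega), if_pos ha, show (a : ℕ) - i = (a - j) + d by omega, pow_add]
      have e : ((-1 : ℝ) ^ ((a : ℕ) - j)) * (-1) ^ ((a : ℕ) - j) = 1 := by rw [← mul_pow]; simp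
      push_cast
      linear_combination ((-1 : ℝ) ^ d * (n.choose ((a : ℕ) - j) : ℝ) * (n.choose ((a : ℕ) - j + d) : ℝ)) * e
    · rw [if_neg ha, if_neg ha, mul_zero]
  rw [hsum, ← Finset.sum_filter,
    show (range (m + n)).filter (fun a => (j : ℕ) ≤ a) = Finset.Ico (j : ℕ) (m + n) by
      ext a; simp; omega,
    Finset.sum_Ico_eq_sum_range, ← mul_sum]
  have e : (-1 : ℝ) ^ ((i : ℕ) + ((i : ℕ) + d)) = (-1) ^ d := by
    rw [← add_assoc, pow_add, ← two_mul, pow_mul]; simp
  rw [e]
  congr 1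
  rw [← Nat.cast_sum]
  congr 1
  have hshift : ∀ b ∈ range (m + n - j), n.choose ((j : ℕ) + b - j) * n.choose ((j : ℕ) + b - j + d)
      = n.choose b * n.choose (b + d) := fun b _ => by rw [Nat.add_sub_cancel_left]
  rw [sum_congr rfl hshift]
  have hj := j.2
  rw [← Finset.sum_subset (Finset.range_mono (by omega : n + 1 ≤ m + n - j)) (fun b _ hb => by
    simp only [mem_range] at hb
    rw [Nat.choose_eq_zero_of_lt (by omega : n < b), zero_mul])]
  rcases Nat.lt_or_ge n d with h | h
  · rw [Nat.choose_eq_zero_of_lt (by omega : 2 * n < n + d)]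
    exact sum_eq_zero fun b _ => by rw [Nat.choose_eq_zero_of_lt (by omega : n < b + d), mul_zero]
  · exact choose_corr n d h

theorem posDef_signed (n m : ℕ) :
    (Matrix.of fun i j : Fin m =>
        (-1 : ℝ) ^ ((i : ℕ) + (j : ℕ)) * (Nat.choose (2 * n) (n + Nat.dist i j) : ℝ)).PosDef := by
  have hinj : Function.Injective (gramD n m).mulVec := by
    intro x y h
    rw [← sub_eq_zero]
    have h0 : (gramD n m).mulVec (x - y) = 0 := by rw [Matrix.mulVec_sub, h, sub_self]
    funext l
    obtain ⟨l, hl⟩ := l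
    induction l using Nat.strong_induction_on with
    | _ l ih =>
      have h1 := congrFun h0 ⟨l, by omega⟩
      simp only [Matrix.mulVec, dotProduct] at h1
      rw [Finset.sum_eq_single (⟨l, hl⟩ : Fin m)] at h1
      · simpa [gramD] using h1
      · intro b _ hb
        by_cases hbl : (b : ℕ) ≤ l
        · have : (b : ℕ) < l := lt_of_le_of_ne hbl fun e => hb (Fin.ext e)
          have hb0 : (x - y) b = 0 := ih b this b.2
          rw [hb0, mul_zero]
        · simp [gramD, hbl]
      · simp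
  have h := Matrix.PosDef.conjTranspose_mul_self (gramD n m) hinj
  convert h using 1
  ext i j
  rcases le_total (i : ℕ) (j : ℕ) with hij | hij
  · rw [gram_entry n m i j hij, of_apply, Nat.dist_eq_sub_of_le hij]
  · have hsymm : ((gramD n m)ᴴ * gramD n m) i j = ((gramD n m)ᴴ * gramD n m) j i := by
      simp only [Matrix.mul_apply, conjTranspose_apply, star_trivial]
      exact sum_congr rfl fun a _ => mul_comm _ _
    rw [hsymm, gram_entry n m j i hij, of_apply, Nat.dist_comm, Nat.dist_eq_sub_of_le hij, add_comm (j : ℕ)]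

end Groth.Agent.ToeplitzGram
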